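import Mathlib.GroupTheory.Perm.Sign
import Mathlib.GroupTheory.OrderOfElement
import Mathlib.Logic.Equiv.Fin.Basic

/-!
Permutations all of whose points return after an odd number of steps, gluing, and the contraction of
four points in a pair of involutions.
-/

set_option autoImplicit false

namespace Cfsg.Lib.OddProduct

open Equiv Function

variable {α : Type*}

/-- Every point returns after an odd number of steps. -/
def Returns (σ : Perm α) : Prop := ∀ a, ∃ n : ℕ, Odd n ∧ (⇑σ)^[n] a = a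

theorem odd_orderOf [Fintype α] {σ : Perm α} (h : Returns σ) : Odd (orderOf σ) := by
  choose f hf hfix using h
  have hN : σ ^ (∏ a, f a) = 1 := by
    refine Equiv.ext fun a => ?_
    obtain ⟨m, hm⟩ := Finset.dvd_prod_of_mem f (Finset.mem_univ a)
    rw [hm, Perm.coe_pow, Perm.one_apply]
    exact (IsPeriodicPt.mul_const (f := ⇑σ) (hfix a) m)
  refine (Odd.of_dvd_nat ?_ (orderOf_dvd_of_pow_eq_one hN))
  exact Finset.prod_induction f Odd (fun _ _ ha hb => ha.mul hb) odd_one fun a _ => hf a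

/-- The product of `z` with `x` and with `y` returns, and `z` is an involution with as many fixed points
as `x`. -/
def Joins [Fintype α] [DecidableEq α] (x y z : Perm α) : Prop :=
  (∀ a, z (z a) = a) ∧ (Finset.univ.filter fun a => z a = a).card = (Finset.univ.filter fun a => x a = a).card ∧
    Returns (z * x) ∧ Returns (z * y)

/-- The equality of the numbers of fixed points. -/
def SameFixed [Fintype α] [DecidableEq α] (x y : Perm α) : Prop :=
  (Finset.univ.filter fun a => x a = a).card = (Finset.univ.filter fun a => y a = a).card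

theorem card_fixed_split [Fintype α] [DecidableEq α] (P : α → Prop) [DecidablePred P] (σ : Perm α)
    (hσ : ∀ a, P (σ a) ↔ P a) :
    (Finset.univ.filter fun a => σ a = a).card =
      (Finset.univ.filter fun a : {a // P a} => σ.subtypePerm hσ a = a).card +
      (Finset.univ.filter fun a : {a // ¬ P a} => σ.subtypePerm (fun a => not_congr (hσ a)) a = a).card := by
  rw [← Finset.card_filter_add_card_filter_not (s := Finset.univ.filter fun a => σ a = a) P]
  congr 1 <;>
  · refine Finset.card_bij (fun a ha => ⟨a, (Finset.mem_filter.1 ha).2⟩) ?_ ?_ ?_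
    · intro a ha
      simp only [Finset.mem_filter, Finset.mem_univ, true_and] at ha ⊢
      exact Subtype.ext ha.1
    · intro a _ b _ h
      exact congrArg Subtype.val h
    · intro b hb
      simp only [Finset.mem_filter, Finset.mem_univ, true_and] at hb
      refine ⟨b.1, ?_, rfl⟩
      simp only [Finset.mem_filter, Finset.mem_univ, true_and]
      exact ⟨congrArg Subtype.val hb, b.2⟩

/-- Gluing along an invariant set. -/
theorem joins_split [Fintype α] [DecidableEq α] (P : α → Prop) [DecidablePred P] (x y : Perm α)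
    (hx : ∀ a, P (x a) ↔ P a) (hy : ∀ a, P (y a) ↔ P a)
    (h1 : ∃ z, Joins (x.subtypePerm hx) (y.subtypePerm hy) z)
    (h2 : ∃ z, Joins (x.subtypePerm (p := fun a => ¬ P a) fun a => not_congr (hx a)) (y.subtypePerm (p := fun a => ¬ P a) fun a => not_congr (hy a)) z) :
    ∃ z, Joins x y z := by
  obtain ⟨z₁, i₁, c₁, a₁, b₁⟩ := h1
  obtain ⟨z₂, i₂, c₂, a₂, b₂⟩ := h2
  set z : Perm α := Equiv.Perm.subtypeCongr z₁ z₂ with hz
  have e1 : ∀ a : {a // P a}, z a = z₁ a := fun a => by
    rw [hz, Equiv.Perm.subtypeCongr.left_apply_subtype]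
  have e2 : ∀ a : {a // ¬ P a}, z a = z₂ a := fun a => by
    rw [hz, Equiv.Perm.subtypeCongr.right_apply_subtype]
  have hzP : ∀ a, P (z a) ↔ P a := fun a => by
    by_cases ha : P a
    · rw [show z a = z₁ ⟨a, ha⟩ from e1 ⟨a, ha⟩]; exact iff_of_true (z₁ ⟨a, ha⟩).2 ha
    · rw [show z a = z₂ ⟨a, ha⟩ from e2 ⟨a, ha⟩]; exact iff_of_false (z₂ ⟨a, ha⟩).2 ha
  have key : ∀ (w : Perm α) (hw : ∀ a, P (w a) ↔ P a), Returns (z₁ * w.subtypePerm hw) →
      Returns (z₂ * w.subtypePerm (p := fun a => ¬ P a) fun a => not_congr (hw a)) → Returns (z * w) := by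
    intro w hw r₁ r₂ a
    have it1 : ∀ (n : ℕ) (b : {a // P a}), (⇑(z * w))^[n] b = ((⇑(z₁ * w.subtypePerm hw))^[n] b).1 := by
      intro n b
      induction n with
      | zero => rfl
      | succ n ih =>
        rw [iterate_succ_apply', iterate_succ_apply', ih]
        exact e1 (w.subtypePerm hw _)
    have it2 : ∀ (n : ℕ) (b : {a // ¬ P a}), (⇑(z * w))^[n] b =
        ((⇑(z₂ * w.subtypePerm (p := fun a => ¬ P a) fun a => not_congr (hw a)))^[n] b).1 := by
      intro n b
      induction n with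
      | zero => rfl
      | succ n ih =>
        rw [iterate_succ_apply', iterate_succ_apply', ih]
        exact e2 (w.subtypePerm (p := fun a => ¬ P a) (fun a => not_congr (hw a)) _)
    by_cases ha : P a
    · obtain ⟨n, hn, h⟩ := r₁ ⟨a, ha⟩
      exact ⟨n, hn, (it1 n ⟨a, ha⟩).trans (congrArg Subtype.val h)⟩
    · obtain ⟨n, hn, h⟩ := r₂ ⟨a, ha⟩
      exact ⟨n, hn, (it2 n ⟨a, ha⟩).trans (congrArg Subtype.val h)⟩
  refine ⟨z, fun a => ?_, ?_, key x hx a₁ a₂, key y hy b₁ b₂⟩
  · by_cases ha : P a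
    · rw [e1 ⟨a, ha⟩, e1, i₁]
    · rw [e2 ⟨a, ha⟩, e2, i₂]
  · rw [card_fixed_split P z hzP, card_fixed_split P x hx, ← c₁, ← c₂]
    congr 2 <;> ext a <;> simp only [Finset.mem_filter, Finset.mem_univ, true_and]
    · exact ⟨fun e => Subtype.ext ((e1 a).symm.trans (congrArg Subtype.val e)),
        fun e => Subtype.ext ((e1 a).trans (congrArg Subtype.val e))⟩
    · exact ⟨fun e => Subtype.ext ((e2 a).symm.trans (congrArg Subtype.val e)),
        fun e => Subtype.ext ((e2 a).trans (congrArg Subtype.val e))⟩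

/-- Transport along an equivalence. -/
theorem joins_transport [Fintype α] [DecidableEq α] {β : Type*} [Fintype β] [DecidableEq β] (e : β ≃ α)
    {x y : Perm α} {x' y' z' : Perm β} (hx : ∀ b, x (e b) = e (x' b)) (hy : ∀ b, y (e b) = e (y' b))
    (h : Joins x' y' z') : ∃ z, Joins x y z := by
  obtain ⟨hi, hc, hxr, hyr⟩ := h
  set z : Perm α := e.permCongr z' with hz
  have hze : ∀ b, z (e b) = e (z' b) := fun b => by simp [hz]
  have key : ∀ (w : Perm α) (w' : Perm β), (∀ b, w (e b) = e (w' b)) → Returns (z' * w') → Returns (z * w) := by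
    intro w w' hw hr a
    obtain ⟨b, rfl⟩ := e.surjective a
    obtain ⟨n, hn, h⟩ := hr b
    refine ⟨n, hn, ?_⟩
    have : ∀ m : ℕ, (⇑(z * w))^[m] (e b) = e ((⇑(z' * w'))^[m] b) := fun m => by
      induction m with
      | zero => rfl
      | succ m ih =>
        rw [iterate_succ_apply', iterate_succ_apply', ih, Perm.mul_apply, Perm.mul_apply, hw, hze]
    rw [this, h]
  have hcard : ∀ (w : Perm α) (w' : Perm β), (∀ b, w (e b) = e (w' b)) →
      (Finset.univ.filter fun a => w a = a).card = (Finset.univ.filter fun b => w' b = b).card := by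
    intro w w' hw
    refine (Finset.card_equiv e fun b => ?_).symm
    simp [hw, e.injective.eq_iff]
  refine ⟨z, fun a => ?_, by rw [hcard z z' hze, hcard x x' hx, hc], key x x' hx hxr, key y y' hy hyr⟩
  obtain ⟨b, rfl⟩ := e.surjective a
  rw [hze, hze, hi]

theorem iterate_returns {β : Type*} (σ : Perm α) (σ' : Perm β) (i : β → α)
    (h : ∀ b, ∃ n : ℕ, Odd n ∧ (⇑σ)^[n] (i b) = i (σ' b)) (hr : Returns σ') (b : β) :
    ∃ n : ℕ, Odd n ∧ (⇑σ)^[n] (i b) = i b := by
  have key : ∀ (m : ℕ) (b : β), ∃ N : ℕ, N % 2 = m % 2 ∧ (⇑σ)^[N] (i b) = i ((⇑σ')^[m] b) := by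
    intro m
    induction m with
    | zero => exact fun b => ⟨0, rfl, rfl⟩
    | succ m ih =>
      intro b
      obtain ⟨n, hn, e⟩ := h b
      obtain ⟨N, hN, e'⟩ := ih (σ' b)
      refine ⟨N + n, ?_, by rw [iterate_add_apply, e, e', iterate_succ_apply]⟩
      obtain ⟨k, rfl⟩ := hn
      omega
  obtain ⟨n, hn, e⟩ := hr b
  obtain ⟨N, hN, e'⟩ := key n b
  exact ⟨N, Nat.odd_iff.2 (hN.trans (Nat.odd_iff.1 hn)), e'.trans (congrArg i e)⟩

theorem returns_of_reach {σ : Perm α} {a b : α} (k : ℕ) (hk : (⇑σ)^[k] b = a)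
    (h : ∃ n : ℕ, Odd n ∧ (⇑σ)^[n] b = b) : ∃ n : ℕ, Odd n ∧ (⇑σ)^[n] a = a := by
  obtain ⟨n, hn, e⟩ := h
  exact ⟨n, hn, by rw [← hk, ← iterate_add_apply, Nat.add_comm, iterate_add_apply, e]⟩

/-- Contraction of four points `p q r s` lying on `a -y- p -x- q -y- r -x- s -y- b`. -/
theorem joins_contract [Fintype α] [DecidableEq α] {x y : Perm α} (hx2 : ∀ a, x (x a) = a) (hy2 : ∀ a, y (y a) = a)
    {a b p q r s : α} (hxp : x p = q) (hyq : y q = r) (hxr : x r = s) (hya : y a = p) (hys : y s = b)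
    (hnd : [a, b, p, q, r, s].Nodup) (P : α → Prop) [DecidablePred P]
    (hP : ∀ c, P c ↔ c ≠ p ∧ c ≠ q ∧ c ≠ r ∧ c ≠ s) :
    ∃ (x' y' : Perm {c // P c}) (a' b' : {c // P c}),
      (∀ c, x' (x' c) = c) ∧ (∀ c, y' (y' c) = c) ∧ (a' : α) = a ∧ (b' : α) = b ∧ (∀ c, (x' c : α) = x c) ∧
      y' a' = b' ∧ (∀ c, c ≠ a' → c ≠ b' → (y' c : α) = y c) ∧
      (SameFixed x y → SameFixed x' y') ∧ ((∃ z', Joins x' y' z') → ∃ z, Joins x y z) := by
  simp only [List.nodup_cons, List.mem_cons, List.not_mem_nil, or_false, not_or, List.nodup_nil, and_true] at hnd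
  obtain ⟨⟨hab, hap, haq, har, has⟩, ⟨hbp, hbq, hbr, hbs⟩, ⟨hpq, hpr, hps⟩, ⟨hqr, hqs⟩, hrs, -⟩ := hnd
  have hxq : x q = p := by rw [← hxp, hx2]
  have hxs : x s = r := by rw [← hxr, hx2]
  have hyr : y r = q := by rw [← hyq, hy2]
  have hyp : y p = a := by rw [← hya, hy2]
  have hyb : y b = s := by rw [← hys, hy2]
  have hxP : ∀ c, P (x c) ↔ P c := by
    intro c
    rw [hP, hP]
    constructor
    · rintro ⟨h1, h2, h3, h4⟩
      exact ⟨fun e => h2 (by rw [e, hxp]), fun e => h1 (by rw [e, hxq]), fun e => h4 (by rw [e, hxr]),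
        fun e => h3 (by rw [e, hxs])⟩
    · rintro ⟨h1, h2, h3, h4⟩
      exact ⟨fun e => h2 (by rw [← hx2 c, e, hxp]), fun e => h1 (by rw [← hx2 c, e, hxq]),
        fun e => h4 (by rw [← hx2 c, e, hxr]), fun e => h3 (by rw [← hx2 c, e, hxs])⟩
  let x' : Perm {c // P c} := x.subtypePerm hxP
  let a' : {c // P c} := ⟨a, (hP a).2 ⟨hap, haq, har, has⟩⟩
  let b' : {c // P c} := ⟨b, (hP b).2 ⟨hbp, hbq, hbr, hbs⟩⟩
  have hyP : ∀ c : {c // P c}, c ≠ a' → c ≠ b' → P (y c) := fun c ha hb => by
    obtain ⟨h1, h2, h3, h4⟩ := (hP c.1).1 c.2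
    exact (hP _).2 ⟨fun e => ha (Subtype.ext (by rw [← hy2 c, e, hyp])),
      fun e => h3 (by rw [← hy2 c.1, e, hyq]), fun e => h2 (by rw [← hy2 c.1, e, hyr]),
      fun e => hb (Subtype.ext (by rw [← hy2 c, e, hys]))⟩
  let yf : {c // P c} → {c // P c} := fun c =>
    if ha : c = a' then b' else if hb : c = b' then a' else ⟨y c, hyP c ha hb⟩
  have hyfa : yf a' = b' := dif_pos rfl
  have hne : b' ≠ a' := fun e => hab (congrArg Subtype.val e).symm
  have hyfb : yf b' = a' := by simp only [yf]; rw [dif_neg hne]; simp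
  have hyf : ∀ c, c ≠ a' → c ≠ b' → (yf c : α) = y c := fun c ha hb => by
    simp only [yf]; rw [dif_neg ha, dif_neg hb]
  have hinv : Involutive yf := fun c => by
    by_cases ha : c = a'
    · rw [ha, hyfa, hyfb]
    by_cases hb : c = b'
    · rw [hb, hyfb, hyfa]
    have e := hyf c ha hb
    have ha' : yf c ≠ a' := fun h => by
      have h1 : y c = a := by rw [← e, h]
      have : (c : α) = p := by rw [← hy2 c, h1, hya]
      exact ((hP c.1).1 c.2).1 this
    have hb' : yf c ≠ b' := fun h => by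
      have h1 : y c = b := by rw [← e, h]
      have : (c : α) = s := by rw [← hy2 c, h1, hyb]
      exact ((hP c.1).1 c.2).2.2.2 this
    exact Subtype.ext (by rw [hyf _ ha' hb', e, hy2])
  let y' : Perm {c // P c} := hinv.toPerm yf
  have hy'a : y' a' = b' := hyfa
  have hy'b : y' b' = a' := hyfb
  refine ⟨x', y', a', b', fun c => Subtype.ext (hx2 c), fun c => hinv c, rfl, rfl, fun c => rfl, hyfa,
    hyf, fun h => ?_, ?_⟩
  · have e1 : ∀ (σ : Perm α) (τ : Perm {c // P c}), (∀ c, ¬ P c → σ c ≠ c) → (∀ c, σ c.1 = c.1 ↔ τ c = c) →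
        (Finset.univ.filter fun c => σ c = c).card = (Finset.univ.filter fun c => τ c = c).card := by
      intro σ τ hout hiff
      refine (Finset.card_bij (fun (c : {c // P c}) _ => (c : α)) ?_ (fun c _ d _ h => Subtype.ext h) ?_).symm
      · intro c hc
        simp only [Finset.mem_filter, Finset.mem_univ, true_and] at hc ⊢
        exact (hiff c).2 hc
      · intro c hc
        simp only [Finset.mem_filter, Finset.mem_univ, true_and] at hc
        have hcP : P c := by_contra fun hn => hout c hn hc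
        exact ⟨⟨c, hcP⟩, by simp only [Finset.mem_filter, Finset.mem_univ, true_and]; exact (hiff ⟨c, hcP⟩).1 hc, rfl⟩
    have hout : ∀ c, ¬ P c → c = p ∨ c = q ∨ c = r ∨ c = s := fun c hc => by
      rw [hP] at hc; tauto
    unfold SameFixed
    rw [← e1 x x' (fun c hc => ?_) (fun c => ⟨fun e => Subtype.ext e, fun e => congrArg Subtype.val e⟩),
      ← e1 y y' (fun c hc => ?_) (fun c => ?_)]
    · exact h
    · rcases hout c hc with rfl | rfl | rfl | rfl
      · rw [hyp]; exact hap
      · rw [hyq]; exact (Ne.symm hqr)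
      · rw [hyr]; exact hqr
      · rw [hys]; exact hbs
    · by_cases ha : c = a'
      · subst ha
        exact iff_of_false (by show y a ≠ a; rw [hya]; exact (Ne.symm hap)) (by rw [hy'a]; exact hne)
      by_cases hb : c = b'
      · subst hb
        exact iff_of_false (by show y b ≠ b; rw [hyb]; exact (Ne.symm hbs)) (by rw [hy'b]; exact (Ne.symm hne))
      exact ⟨fun e => Subtype.ext ((hyf c ha hb).trans e), fun e => (hyf c ha hb).symm.trans (congrArg Subtype.val e)⟩
    · rcases hout c hc with rfl | rfl | rfl | rfl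
      · rw [hxp]; exact (Ne.symm hpq)
      · rw [hxq]; exact hpq
      · rw [hxr]; exact (Ne.symm hrs)
      · rw [hxs]; exact hrs
  rintro ⟨z', hz'i, hz'c, hz'x, hz'y⟩
  set z : Perm α := Equiv.Perm.subtypeCongr z' (x.subtypePerm fun c => not_congr (hxP c)) with hz
  have zin : ∀ c : {c // P c}, z c = z' c := fun c => by
    rw [hz, Equiv.Perm.subtypeCongr.left_apply_subtype]
  have zout : ∀ c, ¬ P c → z c = x c := fun c hc => by
    rw [hz, Equiv.Perm.subtypeCongr.right_apply z' _ hc]; rfl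
  have np : ¬ P p := fun h => ((hP p).1 h).1 rfl
  have nq : ¬ P q := fun h => ((hP q).1 h).2.1 rfl
  have nr : ¬ P r := fun h => ((hP r).1 h).2.2.1 rfl
  have ns : ¬ P s := fun h => ((hP s).1 h).2.2.2 rfl
  refine ⟨z, fun c => ?_, ?_, fun c => ?_, ?_⟩
  · by_cases hc : P c
    · rw [zin ⟨c, hc⟩, zin, hz'i]
    · rw [zout c hc, zout _ (fun h => hc ((hxP c).1 h)), hx2]
  · have hzP : ∀ c, P (z c) ↔ P c := fun c => by
      by_cases hc : P c
      · rw [zin ⟨c, hc⟩]; exact iff_of_true (z' ⟨c, hc⟩).2 hc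
      · rw [zout c hc]; exact hxP c
    rw [card_fixed_split P z hzP, card_fixed_split P x hxP]
    congr 1
    · refine Eq.trans ?_ hz'c
      congr 2
      ext c
      exact ⟨fun e => Subtype.ext ((zin c).symm.trans (congrArg Subtype.val e)),
        fun e => Subtype.ext ((zin c).trans (congrArg Subtype.val e))⟩
    · congr 2
      ext c
      exact ⟨fun e => Subtype.ext ((zout c.1 c.2).symm.trans (congrArg Subtype.val e)),
        fun e => Subtype.ext ((zout c.1 c.2).trans (congrArg Subtype.val e))⟩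
  · by_cases hc : P c
    · obtain ⟨n, hn, e⟩ := iterate_returns (z * x) (z' * x') Subtype.val
        (fun d => ⟨1, odd_one, by rw [iterate_one]; exact zin (x' d)⟩) hz'x ⟨c, hc⟩
      exact ⟨n, hn, e⟩
    · exact ⟨1, odd_one, by rw [iterate_one, Perm.mul_apply, zout _ (fun h => hc ((hxP c).1 h)), hx2]⟩
  · have ra : (z * y) a = q := by rw [Perm.mul_apply, hya, zout p np, hxp]
    have rq : (z * y) q = s := by rw [Perm.mul_apply, hyq, zout r nr, hxr]
    have rb : (z * y) b = r := by rw [Perm.mul_apply, hyb, zout s ns, hxs]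
    have rr : (z * y) r = p := by rw [Perm.mul_apply, hyr, zout q nq, hxq]
    have step : ∀ d : {c // P c}, ∃ n : ℕ, Odd n ∧ (⇑(z * y))^[n] d = ((z' * y') d : α) := by
      intro d
      by_cases ha : d = a'
      · subst ha
        refine ⟨3, ⟨1, rfl⟩, ?_⟩
        show (z * y) ((z * y) ((z * y) a)) = (z' (y' a') : α)
        rw [ra, rq, hy'a, Perm.mul_apply, hys]
        exact zin b'
      by_cases hb : d = b'
      · subst hb
        refine ⟨3, ⟨1, rfl⟩, ?_⟩
        show (z * y) ((z * y) ((z * y) b)) = (z' (y' b') : α)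
        rw [rb, rr, hy'b, Perm.mul_apply, hyp]
        exact zin a'
      refine ⟨1, odd_one, ?_⟩
      rw [iterate_one, Perm.mul_apply, Perm.mul_apply, ← zin (y' d)]
      exact congrArg z (hyf d ha hb).symm
    have hT := iterate_returns (z * y) (z' * y') Subtype.val step hz'y
    intro c
    by_cases hc : P c
    · exact hT ⟨c, hc⟩
    have : c = p ∨ c = q ∨ c = r ∨ c = s := by rw [hP] at hc; tauto
    rcases this with rfl | rfl | rfl | rfl
    · exact returns_of_reach 2 (by show (z * y) ((z * y) b) = _; rw [rb, rr]) (hT b')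
    · exact returns_of_reach 1 (by rw [iterate_one, ra]) (hT a')
    · exact returns_of_reach 1 (by rw [iterate_one, rb]) (hT b')
    · exact returns_of_reach 2 (by show (z * y) ((z * y) a) = _; rw [ra, rq]) (hT a')

end Cfsg.Lib.OddProduct
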