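import Cfsg.Agent.Lib.OddProduct.Basic
import Mathlib.Tactic.FinCases

/-!
For two conjugate involutions of at least five points there is a third one with odd products with both.
-/

set_option autoImplicit false

namespace Cfsg.Lib.OddProduct

open Equiv Function

universe u

variable {α : Type u}

/-- The point lies on an alternating square. -/
def IsC4 (x y : Perm α) (v : α) : Prop :=
  [v, x v, y (x v), x (y (x v))].Nodup ∧ y (x (y (x v))) = v

/-- The four points in question make up everything. -/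
def Exc [Fintype α] (x y : Perm α) : Prop := Fintype.card α = 4 ∧ ∃ v, IsC4 x y v

/-- A place for the contraction. -/
def Contractible (x y : Perm α) : Prop :=
  ∃ a b p q r s, x p = q ∧ y q = r ∧ x r = s ∧ y a = p ∧ y s = b ∧ [a, b, p, q, r, s].Nodup

/-- A small model of a pair of involutions with an involution joining it. -/
def Gad (k : ℕ) (gx gy gz : Fin k → Fin k) : Prop :=
  (∀ i, gx (gx i) = i ∧ gy (gy i) = i ∧ gz (gz i) = i) ∧
    ((Finset.univ.filter fun i => gz i = i).card = (Finset.univ.filter fun i => gx i = i).card ∧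
      (Finset.univ.filter fun i => gy i = i).card = (Finset.univ.filter fun i => gx i = i).card) ∧
    (∀ i, ∃ n ∈ List.range (k + 1), n % 2 = 1 ∧ (fun j => gz (gx j))^[n] i = i) ∧
    ∀ i, ∃ n ∈ List.range (k + 1), n % 2 = 1 ∧ (fun j => gz (gy j))^[n] i = i

instance gadDecidable (k : ℕ) (gx gy gz : Fin k → Fin k) : Decidable (Gad k gx gy gz) :=
  inferInstanceAs (Decidable (_ ∧ _))

/-- An occurrence of a model. -/
def Emb {k : ℕ} (x y : Perm α) (gx gy : Fin k → Fin k) (e : Fin k → α) : Prop :=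
  Injective e ∧ (∀ i, x (e i) = e (gx i)) ∧ ∀ i, y (e i) = e (gy i)

theorem joins_symm [Fintype α] [DecidableEq α] {x y : Perm α} (h : SameFixed x y) :
    (∃ z, Joins y x z) → ∃ z, Joins x y z :=
  fun ⟨z, h1, h2, h3, h4⟩ => ⟨z, h1, h2.trans h.symm, h4, h3⟩

theorem c4_swap {x y : Perm α} (hx2 : ∀ a, x (x a) = a) (hy2 : ∀ a, y (y a) = a) {v : α} (h : IsC4 x y v) :
    IsC4 y x v := by
  obtain ⟨hn, hc⟩ := h
  have e1 : y v = x (y (x v)) := by
    calc y v = y (y (x (y (x v)))) := by rw [hc]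
      _ = x (y (x v)) := hy2 _
  have e2 : x (y v) = y (x v) := by rw [e1, hx2]
  have e3 : y (x (y v)) = x v := by rw [e2, hy2]
  refine ⟨?_, by rw [e3, hx2]⟩
  rw [e3, e2, e1]
  simp only [List.nodup_cons, List.mem_cons, List.not_mem_nil, or_false, not_or, List.nodup_nil, and_true] at hn ⊢
  obtain ⟨⟨h1, h2, h3⟩, ⟨h4, h5⟩, h6, -⟩ := hn
  exact ⟨⟨h3, h2, h1⟩, ⟨Ne.symm h6, Ne.symm h5⟩, Ne.symm h4, not_false⟩

theorem emb_c4 {x y : Perm α} (hx2 : ∀ a, x (x a) = a) (hy2 : ∀ a, y (y a) = a) {v : α} (h : IsC4 x y v) :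
    Emb x y ![1, 0, 3, 2] ![3, 2, 1, 0] ![v, x v, y (x v), x (y (x v))] := by
  obtain ⟨hn, hc⟩ := h
  have e1 : y v = x (y (x v)) := by
    calc y v = y (y (x (y (x v)))) := by rw [hc]
      _ = x (y (x v)) := hy2 _
  refine ⟨?_, ?_, ?_⟩
  · simp only [List.nodup_cons, List.mem_cons, List.not_mem_nil, or_false, not_or, List.nodup_nil, and_true] at hn
    obtain ⟨⟨h1, h2, h3⟩, ⟨h4, h5⟩, h6, -⟩ := hn
    intro i j hij
    fin_cases i <;> fin_cases j <;>
      simp_all [Ne.symm h1, Ne.symm h2, Ne.symm h3, Ne.symm h4, Ne.symm h5, Ne.symm h6]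
  · intro i; fin_cases i <;> simp [hx2]
  · intro i; fin_cases i <;> simp [e1, hy2, hc]

theorem emb_append {x y : Perm α} {k l : ℕ} {gx gy : Fin k → Fin k} {gx' gy' : Fin l → Fin l}
    {e : Fin k → α} {e' : Fin l → α} (h : Emb x y gx gy e) (h' : Emb x y gx' gy' e')
    (hdis : ∀ i j, e i ≠ e' j) (Gx Gy : Fin (k + l) → Fin (k + l))
    (hGx : ∀ i, Gx (Fin.castAdd l i) = Fin.castAdd l (gx i) ∧ Gy (Fin.castAdd l i) = Fin.castAdd l (gy i))
    (hGy : ∀ j, Gx (Fin.natAdd k j) = Fin.natAdd k (gx' j) ∧ Gy (Fin.natAdd k j) = Fin.natAdd k (gy' j)) :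
    Emb x y Gx Gy (Fin.append e e') := by
  refine ⟨Fin.append_injective_iff.2 ⟨h.1, h'.1, hdis⟩, fun i => ?_, fun i => ?_⟩ <;>
    induction i using Fin.addCases with
    | left i => simp [(hGx i).1, (hGx i).2, h.2.1, h.2.2]
    | right j => simp [(hGy j).1, (hGy j).2, h'.2.1, h'.2.2]

/-- An occurrence avoiding the start of another avoids all of it. -/
theorem emb_disjoint {x y : Perm α} (hx2 : ∀ a, x (x a) = a) (hy2 : ∀ a, y (y a) = a) {k l : ℕ} [NeZero l]
    {gx gy : Fin k → Fin k} {gx' gy' : Fin l → Fin l} {e : Fin k → α} {e' : Fin l → α}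
    (h : Emb x y gx gy e) (h' : Emb x y gx' gy' e')
    (hconn : ∀ j : Fin l, j = 0 ∨ ∃ j' : Fin l, j' < j ∧ (gx' j' = j ∨ gy' j' = j))
    (h0 : ∀ i, e i ≠ e' 0) : ∀ i j, e i ≠ e' j := by
  intro i j
  induction j using WellFoundedLT.induction generalizing i with
  | ind j ih =>
    intro hij
    rcases hconn j with rfl | ⟨j', hlt, he | he⟩
    · exact h0 i hij
    · refine ih j' hlt (gx i) ?_
      rw [← h.2.1 i, hij, ← he, ← h'.2.1, hx2]
    · refine ih j' hlt (gy i) ?_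
      rw [← h.2.2 i, hij, ← he, ← h'.2.2, hy2]

theorem walk [DecidableEq α] {x y : Perm α} (hx2 : ∀ a, x (x a) = a) (hy2 : ∀ a, y (y a) = a) {v : α}
    (hv : x v = v) :
    (Emb x y ![0] ![0] ![v]) ∨ (∃ b c, Emb x y ![0, 2, 1] ![1, 0, 2] ![v, b, c]) ∨
      (∃ b c d f, Emb x y ![0, 2, 1, 4, 3] ![1, 0, 3, 2, 4] ![v, b, c, d, f]) ∨
      (∃ b, Emb x y ![0, 1] ![1, 0] ![v, b]) ∨ (∃ b c d, Emb x y ![0, 2, 1, 3] ![1, 0, 3, 2] ![v, b, c, d]) ∨
      Contractible x y := by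
  by_cases h1 : y v = v
  · exact Or.inl ⟨fun i j _ => Subsingleton.elim i j, fun i => by fin_cases i; simpa using hv,
      fun i => by fin_cases i; simpa using h1⟩
  set b := y v with hb
  have hyb : y b = v := hy2 v
  have n01 : v ≠ b := Ne.symm h1
  by_cases h2 : x b = b
  · refine Or.inr (Or.inr (Or.inr (Or.inl ⟨b, ?_, ?_, ?_⟩)))
    · intro i j hij; fin_cases i <;> fin_cases j <;> simp_all
    · intro i; fin_cases i <;> simp [hv, h2]
    · intro i; fin_cases i <;> simp [← hb, hyb]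
  set c := x b with hc
  have hxc : x c = b := hx2 b
  have n12 : b ≠ c := Ne.symm h2
  have n02 : v ≠ c := fun e => n01 (by rw [← hv, e, hxc])
  by_cases h3 : y c = c
  · refine Or.inr (Or.inl ⟨b, c, ?_, ?_, ?_⟩)
    · intro i j hij; fin_cases i <;> fin_cases j <;>
        simp_all [Ne.symm n02, Ne.symm n12, Ne.symm n01]
    · intro i; fin_cases i <;> simp [hv, ← hc, hxc]
    · intro i; fin_cases i <;> simp [← hb, hyb, h3]
  set d := y c with hd
  have hyd : y d = c := hy2 c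
  have n23 : c ≠ d := Ne.symm h3
  have n03 : v ≠ d := fun e => n12 (by rw [hb, e, hyd])
  have n13 : b ≠ d := fun e => n02 (by rw [← hyb, e, hyd])
  by_cases h4 : x d = d
  · refine Or.inr (Or.inr (Or.inr (Or.inr (Or.inl ⟨b, c, d, ?_, ?_, ?_⟩))))
    · intro i j hij; fin_cases i <;> fin_cases j <;>
        simp_all [Ne.symm n02, Ne.symm n12, Ne.symm n01, Ne.symm n03, Ne.symm n13, Ne.symm n23]
    · intro i; fin_cases i <;> simp [hv, ← hc, hxc, h4]
    · intro i; fin_cases i <;> simp [← hb, hyb, ← hd, hyd]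
  set f := x d with hf
  have hxf : x f = d := hx2 d
  have n34 : d ≠ f := Ne.symm h4
  have n04 : v ≠ f := fun e => n03 (by rw [← hv, e, hxf])
  have n14 : b ≠ f := fun e => n23 (by rw [hc, e, hxf])
  have n24 : c ≠ f := fun e => n13 (by rw [← hxc, e, hxf])
  by_cases h5 : y f = f
  · refine Or.inr (Or.inr (Or.inl ⟨b, c, d, f, ?_, ?_, ?_⟩))
    · intro i j hij; fin_cases i <;> fin_cases j <;>
        simp_all [Ne.symm n02, Ne.symm n12, Ne.symm n01, Ne.symm n03, Ne.symm n13, Ne.symm n23,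
          Ne.symm n04, Ne.symm n14, Ne.symm n24, Ne.symm n34]
    · intro i; fin_cases i <;> simp [hv, ← hc, hxc, ← hf, hxf]
    · intro i; fin_cases i <;> simp [← hb, hyb, ← hd, hyd, h5]
  set g := y f with hg
  have hyg : y g = f := hy2 f
  have n45 : f ≠ g := Ne.symm h5
  have n05 : v ≠ g := fun e => n14 (by rw [hb, e, hyg])
  have n15 : b ≠ g := fun e => n04 (by rw [← hyb, e, hyg])
  have n25 : c ≠ g := fun e => n34 (by rw [hd, e, hyg])
  have n35 : d ≠ g := fun e => n24 (by rw [← hyd, e, hyg])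
  refine Or.inr (Or.inr (Or.inr (Or.inr (Or.inr ⟨v, g, b, c, d, f, hc.symm, hd.symm, hf.symm, hb.symm, hg.symm, ?_⟩))))
  simp only [List.nodup_cons, List.mem_cons, List.not_mem_nil, or_false, not_or, List.nodup_nil, and_true]
  exact ⟨⟨n05, n01, n02, n03, n04⟩, ⟨Ne.symm n15, Ne.symm n25, Ne.symm n35, Ne.symm n45⟩, ⟨n12, n13, n14⟩,
    ⟨n23, n24⟩, n34, not_false⟩

theorem walk_cycle {x y : Perm α} (hx2 : ∀ a, x (x a) = a) (hy2 : ∀ a, y (y a) = a)
    (hx : ∀ a, x a ≠ a) (hy : ∀ a, y a ≠ a) (v : α) :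
    Emb x y ![1, 0] ![1, 0] ![v, x v] ∨ IsC4 x y v ∨ Contractible x y := by
  set b := x v with hb
  have hxb : x b = v := hx2 v
  have n01 : v ≠ b := Ne.symm (hx v)
  by_cases h2 : y b = v
  · refine Or.inl ⟨?_, ?_, ?_⟩
    · intro i j hij; fin_cases i <;> fin_cases j <;> simp_all [Ne.symm n01]
    · intro i; fin_cases i <;> simp [← hb, hxb]
    · intro i; fin_cases i <;> simp [h2, show y v = b by rw [← h2, hy2]]
  set c := y b with hc
  have hyc : y c = b := hy2 b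
  have n12 : b ≠ c := Ne.symm (hy b)
  have n02 : v ≠ c := Ne.symm h2
  set d := x c with hd
  have hxd : x d = c := hx2 c
  have n23 : c ≠ d := Ne.symm (hx c)
  have n03 : v ≠ d := fun e => n12 (by rw [hb, e, hxd])
  have n13 : b ≠ d := fun e => n02 (by rw [← hxb, e, hxd])
  by_cases h4 : y d = v
  · refine Or.inr (Or.inl ⟨?_, ?_⟩)
    · simp only [← hb, ← hc, ← hd, List.nodup_cons, List.mem_cons, List.not_mem_nil, or_false, not_or,
        List.nodup_nil, and_true]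
      exact ⟨⟨n01, n02, n03⟩, ⟨n12, n13⟩, n23, not_false⟩
    · simpa [← hb, ← hc, ← hd] using h4
  refine Or.inr (Or.inr ⟨y v, y d, v, b, c, d, hb.symm, hc.symm, hd.symm, hy2 v, rfl, ?_⟩)
  have a1 : y v ≠ b := fun e => n02 (by rw [hc, ← e, hy2])
  have a2 : y v ≠ c := fun e => n01 (y.injective e)
  have a3 : y v ≠ d := fun e => h4 (by rw [← e, hy2])
  have b1 : y d ≠ b := fun e => n23 (by rw [hc, ← e, hy2])
  have b2 : y d ≠ c := fun e => n13 (y.injective e).symm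
  simp only [List.nodup_cons, List.mem_cons, List.not_mem_nil, or_false, not_or, List.nodup_nil, and_true]
  exact ⟨⟨fun e => n03 (y.injective e), hy v, a1, a2, a3⟩, ⟨h4, b1, b2, hy d⟩, ⟨n01, n02, n03⟩,
    ⟨n12, n13⟩, n23, not_false⟩

/-- Removal of an occurrence of a model. -/
theorem step_gad [Fintype α] [DecidableEq α] {x y : Perm α} (hx2 : ∀ a, x (x a) = a) (hy2 : ∀ a, y (y a) = a)
    (hs : SameFixed x y)
    (IH : ∀ (β : Type u) [Fintype β] [DecidableEq β], Fintype.card β < Fintype.card α → ∀ x y : Perm β,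
      (∀ a, x (x a) = a) → (∀ a, y (y a) = a) → SameFixed x y → ¬ Exc x y → ∃ z, Joins x y z)
    {k : ℕ} [NeZero k] {gx gy gz : Fin k → Fin k} (hg : Gad k gx gy gz) {e : Fin k → α} (he : Emb x y gx gy e)
    (hC : ∀ v, IsC4 x y v → (∀ i, e i ≠ v) → Fintype.card α ≠ k + 4) :
    ∃ z, Joins x y z := by
  obtain ⟨hinv, ⟨hcz, hcy⟩, hrx, hry⟩ := hg
  let P : α → Prop := fun a => ∃ i, e i = a
  have hxP : ∀ a, P (x a) ↔ P a := fun a =>
    ⟨fun ⟨i, h⟩ => ⟨gx i, by rw [← he.2.1, h, hx2]⟩, fun ⟨i, h⟩ => ⟨gx i, by rw [← he.2.1, h]⟩⟩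
  have hyP : ∀ a, P (y a) ↔ P a := fun a =>
    ⟨fun ⟨i, h⟩ => ⟨gy i, by rw [← he.2.2, h, hy2]⟩, fun ⟨i, h⟩ => ⟨gy i, by rw [← he.2.2, h]⟩⟩
  let E : Fin k ≃ {a // P a} := Equiv.ofBijective (fun i => ⟨e i, i, rfl⟩)
    ⟨fun i j h => he.1 (congrArg Subtype.val h), fun ⟨a, i, h⟩ => ⟨i, Subtype.ext h⟩⟩
  let X : Perm (Fin k) := Involutive.toPerm gx fun i => (hinv i).1
  let Y : Perm (Fin k) := Involutive.toPerm gy fun i => (hinv i).2.1
  let Z : Perm (Fin k) := Involutive.toPerm gz fun i => (hinv i).2.2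
  have hEx : ∀ i, x.subtypePerm hxP (E i) = E (X i) := fun i => Subtype.ext (he.2.1 i)
  have hEy : ∀ i, y.subtypePerm hyP (E i) = E (Y i) := fun i => Subtype.ext (he.2.2 i)
  have hJ : Joins X Y Z := ⟨fun i => (hinv i).2.2, hcz,
    fun i => by obtain ⟨n, -, hn, h⟩ := hrx i; exact ⟨n, Nat.odd_iff.2 hn, h⟩,
    fun i => by obtain ⟨n, -, hn, h⟩ := hry i; exact ⟨n, Nat.odd_iff.2 hn, h⟩⟩
  have hcard : Fintype.card α = k + Fintype.card {a // ¬ P a} := by
    have := Fintype.card_congr (Equiv.sumCompl P)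
    rw [Fintype.card_sum, ← Fintype.card_congr E, Fintype.card_fin] at this
    omega
  refine joins_split P x y hxP hyP (joins_transport E hEx hEy hJ) ?_
  refine IH _ (by have : k ≠ 0 := NeZero.ne k; omega) _ _ (fun a => Subtype.ext (hx2 a)) (fun a => Subtype.ext (hy2 a)) ?_ ?_
  · have h : _ = _ := hs
    rw [card_fixed_split P x hxP, card_fixed_split P y hyP] at h
    have e2 : (Finset.univ.filter fun a : {a // P a} => x.subtypePerm hxP a = a).card =
        (Finset.univ.filter fun i => gx i = i).card := by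
      refine (Finset.card_equiv E fun i => ?_).symm
      simp only [Finset.mem_filter, Finset.mem_univ, true_and]
      rw [hEx, E.injective.eq_iff]
      rfl
    have e3 : (Finset.univ.filter fun a : {a // P a} => y.subtypePerm hyP a = a).card =
        (Finset.univ.filter fun i => gy i = i).card := by
      refine (Finset.card_equiv E fun i => ?_).symm
      simp only [Finset.mem_filter, Finset.mem_univ, true_and]
      rw [hEy, E.injective.eq_iff]
      rfl
    unfold SameFixed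
    omega
  · rintro ⟨h4, v, hn, hc⟩
    refine hC v.1 ⟨?_, congrArg Subtype.val hc⟩ (fun i h => v.2 ⟨i, h⟩) (by omega)
    exact hn.map Subtype.val_injective

/-- The contraction step. -/
theorem step_contract [Fintype α] [DecidableEq α] {x y : Perm α} (hx2 : ∀ a, x (x a) = a)
    (hy2 : ∀ a, y (y a) = a) (hs : SameFixed x y)
    (IH : ∀ (β : Type u) [Fintype β] [DecidableEq β], Fintype.card β < Fintype.card α → ∀ x y : Perm β,
      (∀ a, x (x a) = a) → (∀ a, y (y a) = a) → SameFixed x y → ¬ Exc x y → ∃ z, Joins x y z)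
    (h : Contractible x y) : ∃ z, Joins x y z := by
  obtain ⟨a, b, p, q, r, s, hxp, hyq, hxr, hya, hys, hnd⟩ := h
  obtain ⟨x', y', a', b', hx'2, hy'2, ha', hb', hx', hy'ab, hy', hsame, hback⟩ :=
    joins_contract hx2 hy2 hxp hyq hxr hya hys hnd (fun c => c ≠ p ∧ c ≠ q ∧ c ≠ r ∧ c ≠ s) fun _ => Iff.rfl
  simp only [List.nodup_cons, List.mem_cons, List.not_mem_nil, or_false, not_or, List.nodup_nil, and_true] at hnd
  obtain ⟨⟨hab, hap, haq, har, has⟩, ⟨hbp, hbq, hbr, hbs⟩, ⟨hpq, hpr, hps⟩, ⟨hqr, hqs⟩, hrs, -⟩ := hnd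
  have hlt : Fintype.card {c // c ≠ p ∧ c ≠ q ∧ c ≠ r ∧ c ≠ s} < Fintype.card α :=
    Fintype.card_subtype_lt (x := p) fun h => h.1 rfl
  by_cases hE : Exc x' y'
  swap
  · exact hback (IH _ hlt x' y' hx'2 hy'2 (hsame hs) hE)
  -- an octagon
  obtain ⟨h4, v, hn, hc⟩ := hE
  have hemb := emb_c4 hx'2 hy'2 ⟨hn, hc⟩
  have hbij : Bijective ![v, x' v, y' (x' v), x' (y' (x' v))] :=
    (Fintype.bijective_iff_injective_and_card _).2 ⟨hemb.1, by rw [Fintype.card_fin, h4]⟩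
  have hab' : y' a' = b' ∧ a' ≠ b' := ⟨hy'ab, fun e => hab (by rw [← ha', ← hb', e])⟩
  have hx'a : x' a' ≠ a' ∧ x' a' ≠ b' := by
    obtain ⟨i, hi⟩ := hbij.2 a'
    have h1 := hemb.2.1 i
    have h2 := hemb.2.2 i
    rw [hi] at h1 h2
    rw [hy'ab] at h2
    refine ⟨fun e => ?_, fun e => ?_⟩
    · rw [e, ← hi] at h1
      have := hemb.1 h1
      fin_cases i <;> simp at this
    · rw [e, h2] at h1
      have := hemb.1 h1
      fin_cases i <;> simp at this
  set a₁ := x' a' with ha₁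
  set b₁ := x' b' with hb₁
  have n1 : b₁ ≠ a' := fun e => hx'a.2 (by rw [ha₁, ← e, hb₁, hx'2])
  have n2 : b₁ ≠ a₁ := fun e => hab'.2 (x'.injective e).symm
  have n3 : b₁ ≠ b' := by
    intro e
    obtain ⟨i, hi⟩ := hbij.2 b'
    have h1 := hemb.2.1 i
    rw [hi, ← hb₁, e, ← hi] at h1
    have := hemb.1 h1
    fin_cases i <;> simp at this
  have hyab : y' a₁ = b₁ := by
    have hall : ∀ c, c = a' ∨ c = a₁ ∨ c = b' ∨ c = b₁ := by
      intro c
      by_contra hc'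
      simp only [not_or] at hc'
      have h5 : ({c, a', a₁, b', b₁} : Finset _).card ≤ 4 := h4 ▸ Finset.card_le_univ _
      rw [Finset.card_insert_of_notMem (by simp [hc'.1, hc'.2.1, hc'.2.2.1, hc'.2.2.2]),
        Finset.card_insert_of_notMem (by simp [Ne.symm hx'a.1, hab'.2, Ne.symm n1]),
        Finset.card_insert_of_notMem (by simp [hx'a.2, Ne.symm n2]),
        Finset.card_insert_of_notMem (by simp [Ne.symm n3]), Finset.card_singleton] at h5
      omega
    have hfix : y' a₁ ≠ a₁ := by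
      obtain ⟨i, hi⟩ := hbij.2 a₁
      have h2 := hemb.2.2 i
      rw [hi] at h2
      intro e
      rw [e, ← hi] at h2
      have := hemb.1 h2
      fin_cases i <;> simp at this
    rcases hall (y' a₁) with e | e | e | e
    · exact absurd (show a₁ = b' by rw [← hy'ab, ← e, hy'2]) hx'a.2
    · exact absurd e hfix
    · exact absurd (show a₁ = a' from y'.injective (e.trans hy'ab.symm)) hx'a.1
    · exact e
  have hv : ∀ c : {c // c ≠ p ∧ c ≠ q ∧ c ≠ r ∧ c ≠ s}, (c : α) ≠ p ∧ (c : α) ≠ q ∧ (c : α) ≠ r ∧ (c : α) ≠ s :=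
    fun c => c.2
  have hxa : x a = a₁ := by rw [ha₁, hx', ha']
  have hxb : x b = b₁ := by rw [hb₁, hx', hb']
  have hya₁ : y (a₁ : α) = b₁ := by
    rw [← hy' a₁ hx'a.1 hx'a.2, hyab]
  have hyb₁ : y (b₁ : α) = a₁ := by rw [← hya₁, hy2]
  have hxa₁ : x (a₁ : α) = a := by rw [← hxa, hx2]
  have hxb₁ : x (b₁ : α) = b := by rw [← hxb, hx2]
  have hxq : x q = p := by rw [← hxp, hx2]
  have hxs : x s = r := by rw [← hxr, hx2]
  have hyr : y r = q := by rw [← hyq, hy2]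
  have hyp : y p = a := by rw [← hya, hy2]
  have hyb : y b = s := by rw [← hys, hy2]
  have emb : Emb x y ![1, 0, 3, 2, 5, 4, 7, 6] ![7, 2, 1, 4, 3, 6, 5, 0]
      ![a, (a₁ : α), (b₁ : α), b, s, r, q, p] := by
    refine ⟨?_, ?_, ?_⟩
    · obtain ⟨A1, A2, A3, A4⟩ := hv a₁
      obtain ⟨B1, B2, B3, B4⟩ := hv b₁
      have m1 : (a₁ : α) ≠ a := fun e => hx'a.1 (Subtype.ext (by rw [e, ha']))
      have m2 : (a₁ : α) ≠ b := fun e => hx'a.2 (Subtype.ext (by rw [e, hb']))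
      have m3 : (b₁ : α) ≠ a := fun e => n1 (Subtype.ext (by rw [e, ha']))
      have m4 : (b₁ : α) ≠ b := fun e => n3 (Subtype.ext (by rw [e, hb']))
      have m5 : (b₁ : α) ≠ a₁ := fun e => n2 (Subtype.ext e)
      rw [← List.nodup_ofFn]
      simp [List.ofFn_succ, Ne.symm m1, m2, Ne.symm m3, m4, Ne.symm m5, hab, has, har, haq, hap, A1, A2, A3, A4,
        B1, B2, B3, B4, hbs, hbr, hbq, hbp, Ne.symm hrs, Ne.symm hqs, Ne.symm hps, Ne.symm hqr, Ne.symm hpr,
        Ne.symm hpq]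
    · intro i; fin_cases i <;> simp [hxa, hxa₁, hxb, hxb₁, hxs, hxr, hxq, hxp]
    · intro i; fin_cases i <;> simp [hyp, hya₁, hyb₁, hyb, hys, hyq, hyr, hya]
  refine step_gad hx2 hy2 hs IH (gz := ![1, 0, 4, 7, 2, 6, 5, 3]) (by decide +kernel) emb fun _ _ _ h8 => ?_
  have h12 : Fintype.card α ≤ 4 + 4 := by
    have hle : (Finset.univ : Finset α) ⊆
        (Finset.univ : Finset {c // c ≠ p ∧ c ≠ q ∧ c ≠ r ∧ c ≠ s}).map (Embedding.subtype _) ∪ {p, q, r, s} := by
      intro c _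
      by_cases hc : c ≠ p ∧ c ≠ q ∧ c ≠ r ∧ c ≠ s
      · exact Finset.mem_union_left _ (Finset.mem_map.2 ⟨⟨c, hc⟩, Finset.mem_univ _, rfl⟩)
      · refine Finset.mem_union_right _ ?_
        simp only [Finset.mem_insert, Finset.mem_singleton]
        tauto
    refine (Finset.card_le_card hle).trans ((Finset.card_union_le _ _).trans (Nat.add_le_add ?_ Finset.card_le_four))
    rw [Finset.card_map, Finset.card_univ, h4]
  omega

/-- An odd path from a fixed point of `x`, or a double edge. -/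
def HasGood (x y : Perm α) (v : α) : Prop :=
  (∃ w, Emb x y ![1, 0] ![1, 0] ![v, w]) ∨ Emb x y ![0] ![0] ![v] ∨
    (∃ b c, Emb x y ![0, 2, 1] ![1, 0, 2] ![v, b, c]) ∨
    ∃ b c d f, Emb x y ![0, 2, 1, 4, 3] ![1, 0, 3, 2, 4] ![v, b, c, d, f]

/-- An even path from a fixed point of `x`. -/
def HasEven (x y : Perm α) (v : α) : Prop :=
  (∃ b, Emb x y ![0, 1] ![1, 0] ![v, b]) ∨ ∃ b c d, Emb x y ![0, 2, 1, 3] ![1, 0, 3, 2] ![v, b, c, d]

theorem good_alone [Fintype α] [DecidableEq α] {x y : Perm α} (hx2 : ∀ a, x (x a) = a)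
    (hy2 : ∀ a, y (y a) = a) (hs : SameFixed x y)
    (IH : ∀ (β : Type u) [Fintype β] [DecidableEq β], Fintype.card β < Fintype.card α → ∀ x y : Perm β,
      (∀ a, x (x a) = a) → (∀ a, y (y a) = a) → SameFixed x y → ¬ Exc x y → ∃ z, Joins x y z)
    {v : α} (h : HasGood x y v) (hC : ∀ w, ¬ IsC4 x y w) : ∃ z, Joins x y z := by
  rcases h with ⟨w, h⟩ | h | ⟨b, c, h⟩ | ⟨b, c, d, f, h⟩
  · exact step_gad hx2 hy2 hs IH (gz := ![1, 0]) (by decide +kernel) h fun w hw => absurd hw (hC w)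
  · exact step_gad hx2 hy2 hs IH (gz := ![0]) (by decide +kernel) h fun w hw => absurd hw (hC w)
  · exact step_gad hx2 hy2 hs IH (gz := ![0, 2, 1]) (by decide +kernel) h fun w hw => absurd hw (hC w)
  · exact step_gad hx2 hy2 hs IH (gz := ![0, 2, 1, 4, 3]) (by decide +kernel) h fun w hw => absurd hw (hC w)

theorem good_with_square [Fintype α] [DecidableEq α] {x y : Perm α} (hx2 : ∀ a, x (x a) = a)
    (hy2 : ∀ a, y (y a) = a) (hs : SameFixed x y)
    (IH : ∀ (β : Type u) [Fintype β] [DecidableEq β], Fintype.card β < Fintype.card α → ∀ x y : Perm β,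
      (∀ a, x (x a) = a) → (∀ a, y (y a) = a) → SameFixed x y → ¬ Exc x y → ∃ z, Joins x y z)
    {v u₀ : α} (h : HasGood x y v) (hu : IsC4 x y u₀)
    (hdis : ∀ i, (![u₀, x u₀, y (x u₀), x (y (x u₀))] : Fin 4 → α) i ≠ v)
    (hC : ∀ w, IsC4 x y w → ∃ i, (![u₀, x u₀, y (x u₀), x (y (x u₀))] : Fin 4 → α) i = w) :
    ∃ z, Joins x y z := by
  have h4 := emb_c4 hx2 hy2 hu
  have fin : ∀ {k : ℕ} [NeZero k] {gx gy : Fin k → Fin k} {e : Fin k → α} {Gx Gy Gz : Fin (4 + k) → Fin (4 + k)},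
      Emb x y gx gy e → e 0 = v →
      (∀ j : Fin k, j = 0 ∨ ∃ j' : Fin k, j' < j ∧ (gx j' = j ∨ gy j' = j)) →
      (∀ i, Gx (Fin.castAdd k i) = Fin.castAdd k (![1, 0, 3, 2] i) ∧ Gy (Fin.castAdd k i) = Fin.castAdd k (![3, 2, 1, 0] i)) →
      (∀ j, Gx (Fin.natAdd 4 j) = Fin.natAdd 4 (gx j) ∧ Gy (Fin.natAdd 4 j) = Fin.natAdd 4 (gy j)) →
      Gad (4 + k) Gx Gy Gz → ∃ z, Joins x y z := by
    intro k _ gx gy e Gx Gy Gz he h0 hconn hG1 hG2 hG
    haveI : NeZero (4 + k) := ⟨by omega⟩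
    refine step_gad hx2 hy2 hs IH hG (emb_append h4 he
      (emb_disjoint hx2 hy2 h4 he hconn (fun i => by rw [h0]; exact hdis i)) Gx Gy hG1 hG2) fun w hw hout => ?_
    obtain ⟨i, hi⟩ := hC w hw
    exact absurd hi (by simpa using hout (Fin.castAdd k i))
  rcases h with ⟨w, h⟩ | h | ⟨b, c, h⟩ | ⟨b, c, d, f, h⟩
  · exact fin (Gx := ![1, 0, 3, 2, 5, 4]) (Gy := ![3, 2, 1, 0, 5, 4]) (Gz := ![2, 4, 0, 5, 1, 3]) h rfl
      (by decide) (by decide) (by decide) (by decide +kernel)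
  · exact fin (Gx := ![1, 0, 3, 2, 4]) (Gy := ![3, 2, 1, 0, 4]) (Gz := ![0, 2, 1, 4, 3]) h rfl
      (by decide) (by decide) (by decide) (by decide +kernel)
  · exact fin (Gx := ![1, 0, 3, 2, 4, 6, 5]) (Gy := ![3, 2, 1, 0, 5, 4, 6]) (Gz := ![0, 2, 1, 4, 3, 6, 5]) h rfl
      (by decide) (by decide) (by decide) (by decide +kernel)
  · exact fin (Gx := ![1, 0, 3, 2, 4, 6, 5, 8, 7]) (Gy := ![3, 2, 1, 0, 5, 4, 7, 6, 8])
      (Gz := ![0, 2, 1, 4, 3, 6, 5, 8, 7]) h rfl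
      (by decide) (by decide) (by decide) (by decide +kernel)

theorem hasEven_no_fixed {x y : Perm α} {v w : α} (h : HasEven x y v) (hw : y w = w) :
    (∀ b, Emb x y ![0, 1] ![1, 0] ![v, b] → ∀ i, (![v, b] : Fin 2 → α) i ≠ w) ∧
      ∀ b c d, Emb x y ![0, 2, 1, 3] ![1, 0, 3, 2] ![v, b, c, d] → ∀ i, (![v, b, c, d] : Fin 4 → α) i ≠ w := by
  refine ⟨fun b hb i e => ?_, fun b c d hb i e => ?_⟩ <;>
  · have h1 := hb.2.2 i
    rw [e, hw, ← e] at h1
    have := hb.1 h1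
    fin_cases i <;> simp at this

/-- The main theorem. -/
theorem exists_joins : ∀ (m : ℕ) (α : Type u) [Fintype α] [DecidableEq α], Fintype.card α = m →
    ∀ x y : Perm α, (∀ a, x (x a) = a) → (∀ a, y (y a) = a) → SameFixed x y → ¬ Exc x y → ∃ z, Joins x y z := by
  intro m
  induction m using Nat.strong_induction_on with
  | _ m ih =>
  intro α _ _ hm x y hx2 hy2 hs hE
  have IH : ∀ (β : Type u) [Fintype β] [DecidableEq β], Fintype.card β < Fintype.card α → ∀ x y : Perm β,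
      (∀ a, x (x a) = a) → (∀ a, y (y a) = a) → SameFixed x y → ¬ Exc x y → ∃ z, Joins x y z :=
    fun β _ _ hlt => ih _ (hm ▸ hlt) β rfl
  have hs' : SameFixed y x := hs.symm
  by_cases hcx : Contractible x y
  · exact step_contract hx2 hy2 hs IH hcx
  by_cases hcy : Contractible y x
  · exact joins_symm hs (step_contract hy2 hx2 hs' IH hcy)
  by_cases hne : Nonempty α
  swap
  · haveI := not_nonempty_iff.1 hne
    exact ⟨x, fun a => hx2 a, rfl, fun a => isEmptyElim a, fun a => isEmptyElim a⟩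
  have hfix : (∃ v, x v = v) ∨ ((∀ a, x a ≠ a) ∧ ∀ a, y a ≠ a) := by
    by_cases h : ∃ v, x v = v
    · exact Or.inl h
    right
    simp only [not_exists] at h
    refine ⟨h, fun a ha => ?_⟩
    have h0 : (Finset.univ.filter fun a => x a = a).card = 0 :=
      Finset.card_eq_zero.2 (Finset.filter_eq_empty_iff.2 fun a _ => h a)
    have h1 : 0 < (Finset.univ.filter fun a => y a = a).card := Finset.card_pos.2 ⟨a, by simpa using ha⟩
    have : _ = _ := hs
    omega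
  have even_partner : ∀ v, HasEven x y v → x v = v → ∃ w, y w = w ∧ (HasGood y x w ∨ HasEven y x w) := by
    intro v _ hv
    have h1 : 0 < (Finset.univ.filter fun a => x a = a).card := Finset.card_pos.2 ⟨v, by simpa using hv⟩
    have : _ = _ := hs
    obtain ⟨w, hw⟩ := Finset.card_pos.1 (show 0 < (Finset.univ.filter fun a => y a = a).card by omega)
    simp only [Finset.mem_filter, Finset.mem_univ, true_and] at hw
    refine ⟨w, hw, ?_⟩
    rcases walk hy2 hx2 hw with h | h | h | h | h | h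
    · exact Or.inl (Or.inr (Or.inl h))
    · exact Or.inl (Or.inr (Or.inr (Or.inl h)))
    · exact Or.inl (Or.inr (Or.inr (Or.inr h)))
    · exact Or.inr (Or.inl h)
    · exact Or.inr (Or.inr h)
    · exact absurd h hcy
  have walk' : ∀ v, x v = v → HasGood x y v ∨ HasEven x y v := by
    intro v hv
    rcases walk hx2 hy2 hv with h | h | h | h | h | h
    · exact Or.inl (Or.inr (Or.inl h))
    · exact Or.inl (Or.inr (Or.inr (Or.inl h)))
    · exact Or.inl (Or.inr (Or.inr (Or.inr h)))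
    · exact Or.inr (Or.inl h)
    · exact Or.inr (Or.inr h)
    · exact absurd h hcx
  by_cases hsq : ∃ u₀, IsC4 x y u₀
  swap
  · simp only [not_exists] at hsq
    have hsq' : ∀ w, ¬ IsC4 y x w := fun w h => hsq w (c4_swap hy2 hx2 h)
    rcases hfix with ⟨v, hv⟩ | ⟨hx, hy⟩
    · rcases walk' v hv with h | h
      · exact good_alone hx2 hy2 hs IH h hsq
      obtain ⟨w, hw, hg | he⟩ := even_partner v h hv
      · exact joins_symm hs (good_alone hy2 hx2 hs' IH hg hsq')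
      have fin : ∀ {k l : ℕ} [NeZero k] [NeZero l] {gx gy : Fin k → Fin k} {gx' gy' : Fin l → Fin l}
          {e : Fin k → α} {e' : Fin l → α} {Gx Gy Gz : Fin (k + l) → Fin (k + l)},
          Emb x y gx gy e → Emb y x gy' gx' e' → (∀ i, e i ≠ e' 0) →
          (∀ j : Fin l, j = 0 ∨ ∃ j' : Fin l, j' < j ∧ (gx' j' = j ∨ gy' j' = j)) →
          (∀ i, Gx (Fin.castAdd l i) = Fin.castAdd l (gx i) ∧ Gy (Fin.castAdd l i) = Fin.castAdd l (gy i)) →
          (∀ j, Gx (Fin.natAdd k j) = Fin.natAdd k (gx' j) ∧ Gy (Fin.natAdd k j) = Fin.natAdd k (gy' j)) →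
          Gad (k + l) Gx Gy Gz → ∃ z, Joins x y z := by
        intro k l _ _ gx gy gx' gy' e e' Gx Gy Gz he' hf h0 hconn hG1 hG2 hG
        haveI : NeZero (k + l) := ⟨by have := NeZero.ne k; omega⟩
        have hf' : Emb x y gx' gy' e' := ⟨hf.1, hf.2.2, hf.2.1⟩
        exact step_gad hx2 hy2 hs IH hG (emb_append he' hf' (emb_disjoint hx2 hy2 he' hf' hconn h0) Gx Gy hG1 hG2)
          fun w hw => absurd hw (hsq w)
      obtain ⟨d2, d4⟩ := hasEven_no_fixed h hw
      rcases h with ⟨b, h⟩ | ⟨b, c, d, h⟩ <;> rcases he with ⟨b', he⟩ | ⟨b', c', d', he⟩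
      · exact fin (Gx := ![0, 1, 3, 2]) (Gy := ![1, 0, 2, 3]) (Gz := ![0, 2, 1, 3]) h he (fun i => by simpa using d2 b h i)
          (by decide) (by decide) (by decide) (by decide +kernel)
      · exact fin (Gx := ![0, 1, 3, 2, 5, 4]) (Gy := ![1, 0, 2, 4, 3, 5]) (Gz := ![0, 2, 1, 3, 5, 4]) h he (fun i => by simpa using d2 b h i)
          (by decide) (by decide) (by decide) (by decide +kernel)
      · exact fin (Gx := ![0, 2, 1, 3, 5, 4]) (Gy := ![1, 0, 3, 2, 4, 5]) (Gz := ![0, 2, 1, 4, 3, 5]) h he (fun i => by simpa using d4 b c d h i)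
          (by decide) (by decide) (by decide) (by decide +kernel)
      · exact fin (Gx := ![0, 2, 1, 3, 5, 4, 7, 6]) (Gy := ![1, 0, 3, 2, 4, 6, 5, 7])
          (Gz := ![0, 2, 1, 4, 3, 5, 7, 6]) h he (fun i => by simpa using d4 b c d h i)
          (by decide) (by decide) (by decide) (by decide +kernel)
    · obtain ⟨v⟩ := hne
      rcases walk_cycle hx2 hy2 hx hy v with h | h | h
      · exact good_alone hx2 hy2 hs IH (Or.inl ⟨_, h⟩) hsq
      · exact absurd h (hsq v)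
      · exact absurd h hcx
  obtain ⟨u₀, hu⟩ := hsq
  have h4 := emb_c4 hx2 hy2 hu
  set e4 : Fin 4 → α := ![u₀, x u₀, y (x u₀), x (y (x u₀))] with he4
  by_cases htwo : ∃ u₁, IsC4 x y u₁ ∧ ∀ i, e4 i ≠ u₁
  · obtain ⟨u₁, hu₁, hd⟩ := htwo
    have h4' := emb_c4 hx2 hy2 hu₁
    have hd' := emb_disjoint hx2 hy2 h4 h4' (by decide) (fun i => by simpa using hd i)
    have h8 := emb_append h4 h4' hd' ![1, 0, 3, 2, 5, 4, 7, 6] ![3, 2, 1, 0, 7, 6, 5, 4] (by decide) (by decide)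
    set e8 : Fin (4 + 4) → α := Fin.append e4 ![u₁, x u₁, y (x u₁), x (y (x u₁))] with he8
    by_cases hthree : ∃ u₂, IsC4 x y u₂ ∧ (∀ i, e8 i ≠ u₂) ∧ Fintype.card α = 4 + 4 + 4
    · obtain ⟨u₂, hu₂, hd₂, hc12⟩ := hthree
      have h4'' := emb_c4 hx2 hy2 hu₂
      have hd'' := emb_disjoint hx2 hy2 h8 h4'' (by decide) (fun i => by simpa using hd₂ i)
      exact step_gad hx2 hy2 hs IH (gz := ![1, 0, 4, 6, 2, 8, 3, 11, 5, 10, 9, 7])
        (gx := ![1, 0, 3, 2, 5, 4, 7, 6, 9, 8, 11, 10]) (gy := ![3, 2, 1, 0, 7, 6, 5, 4, 11, 10, 9, 8])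
        (k := 4 + 4 + 4) (by decide +kernel) (emb_append h8 h4'' hd'' _ _ (by decide) (by decide))
        fun _ _ _ => by omega
    · refine step_gad hx2 hy2 hs IH (gz := ![1, 0, 4, 7, 2, 6, 5, 3]) (by decide +kernel) h8 fun w hw hout h12 => ?_
      exact hthree ⟨w, hw, hout, h12⟩
  have hC : ∀ w, IsC4 x y w → ∃ i, e4 i = w := fun w hw => by
    by_contra h
    exact htwo ⟨w, hw, fun i hi => h ⟨i, hi⟩⟩
  have hfix4 : ∀ w, x w = w ∨ y w = w → ∀ i, e4 i ≠ w := fun w hw i e => by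
    rcases hw with hw | hw
    · have h1 := h4.2.1 i
      rw [e, hw, ← e] at h1
      have := h4.1 h1
      fin_cases i <;> simp at this
    · have h1 := h4.2.2 i
      rw [e, hw, ← e] at h1
      have := h4.1 h1
      fin_cases i <;> simp at this
  rcases hfix with ⟨v, hv⟩ | ⟨hx, hy⟩
  · rcases walk' v hv with h | h
    · exact good_with_square hx2 hy2 hs IH h hu (hfix4 v (Or.inl hv)) hC
    obtain ⟨w, hw, hg | he⟩ := even_partner v h hv
    · have hu' := c4_swap hx2 hy2 hu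
      have hswap : ∀ c, (∃ i, e4 i = c) ↔
          ∃ i, (![u₀, y u₀, x (y u₀), y (x (y u₀))] : Fin 4 → α) i = c := by
        have e1 : y u₀ = x (y (x u₀)) := h4.2.2 0
        have e2 : x (y u₀) = y (x u₀) := by rw [e1, hx2]
        have e3 : y (x (y u₀)) = x u₀ := by rw [e2, hy2]
        intro c
        rw [e3, e2, e1, he4]
        simp [Fin.exists_fin_succ]
        tauto
      refine joins_symm hs (good_with_square hy2 hx2 hs' IH hg hu' (fun i e => ?_) fun w' hw' =>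
        (hswap w').1 (hC w' (c4_swap hy2 hx2 hw')))
      obtain ⟨j, hj⟩ := (hswap w).2 ⟨i, e⟩
      exact hfix4 w (Or.inr hw) j hj
    have fin : ∀ {k l : ℕ} [NeZero k] [NeZero l] {gx gy : Fin k → Fin k} {gx' gy' : Fin l → Fin l}
        {e : Fin k → α} {e' : Fin l → α} (Hx Hy : Fin (4 + k) → Fin (4 + k)) {Gx Gy Gz : Fin (4 + k + l) → Fin (4 + k + l)},
        Emb x y gx gy e → e 0 = v → Emb y x gy' gx' e' → e' 0 = w → (∀ i, e i ≠ w) →
        (∀ j : Fin k, j = 0 ∨ ∃ j' : Fin k, j' < j ∧ (gx j' = j ∨ gy j' = j)) →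
        (∀ j : Fin l, j = 0 ∨ ∃ j' : Fin l, j' < j ∧ (gx' j' = j ∨ gy' j' = j)) →
        (∀ i, Hx (Fin.castAdd k i) = Fin.castAdd k (![1, 0, 3, 2] i) ∧ Hy (Fin.castAdd k i) = Fin.castAdd k (![3, 2, 1, 0] i)) →
        (∀ j, Hx (Fin.natAdd 4 j) = Fin.natAdd 4 (gx j) ∧ Hy (Fin.natAdd 4 j) = Fin.natAdd 4 (gy j)) →
        (∀ i, Gx (Fin.castAdd l i) = Fin.castAdd l (Hx i) ∧ Gy (Fin.castAdd l i) = Fin.castAdd l (Hy i)) →
        (∀ j, Gx (Fin.natAdd (4 + k) j) = Fin.natAdd (4 + k) (gx' j) ∧ Gy (Fin.natAdd (4 + k) j) = Fin.natAdd (4 + k) (gy' j)) →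
        Gad (4 + k + l) Gx Gy Gz → ∃ z, Joins x y z := by
      intro k l _ _ gx gy gx' gy' e e' Hx Hy Gx Gy Gz he₁ h0 hf h0' hew hc₁ hc₂ hH1 hH2 hG1 hG2 hG
      haveI : NeZero (4 + k) := ⟨by omega⟩
      haveI : NeZero (4 + k + l) := ⟨by omega⟩
      have hf' : Emb x y gx' gy' e' := ⟨hf.1, hf.2.2, hf.2.1⟩
      have hA := emb_append h4 he₁ (emb_disjoint hx2 hy2 h4 he₁ hc₁ (fun i => by
        rw [h0]; exact hfix4 v (Or.inl hv) i)) Hx Hy hH1 hH2
      have hB := emb_append hA hf' (emb_disjoint hx2 hy2 hA hf' hc₂ (fun i => by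
        rw [h0']
        induction i using Fin.addCases with
        | left i => rw [Fin.append_left]; exact hfix4 w (Or.inr hw) i
        | right j => rw [Fin.append_right]; exact hew j)) Gx Gy hG1 hG2
      refine step_gad hx2 hy2 hs IH hG hB fun c hc hout => ?_
      obtain ⟨i, hi⟩ := hC c hc
      exact absurd hi (by simpa [he4] using hout (Fin.castAdd l (Fin.castAdd k i)))
    obtain ⟨d2, d4⟩ := hasEven_no_fixed h hw
    rcases h with ⟨b, h⟩ | ⟨b, c, d, h⟩ <;> rcases he with ⟨b', he⟩ | ⟨b', c', d', he⟩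
    · exact fin ![1, 0, 3, 2, 4, 5] ![3, 2, 1, 0, 5, 4] (Gx := ![1, 0, 3, 2, 4, 5, 7, 6])
        (Gy := ![3, 2, 1, 0, 5, 4, 6, 7]) (Gz := ![0, 2, 1, 4, 3, 6, 5, 7]) h rfl he rfl (d2 b h)
        (by decide) (by decide) (by decide) (by decide) (by decide) (by decide) (by decide +kernel)
    · exact fin ![1, 0, 3, 2, 4, 5] ![3, 2, 1, 0, 5, 4] (Gx := ![1, 0, 3, 2, 4, 5, 7, 6, 9, 8])
        (Gy := ![3, 2, 1, 0, 5, 4, 6, 8, 7, 9]) (Gz := ![0, 2, 1, 4, 3, 6, 5, 7, 9, 8]) h rfl he rfl (d2 b h)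
        (by decide) (by decide) (by decide) (by decide) (by decide) (by decide) (by decide +kernel)
    · exact fin ![1, 0, 3, 2, 4, 6, 5, 7] ![3, 2, 1, 0, 5, 4, 7, 6] (Gx := ![1, 0, 3, 2, 4, 6, 5, 7, 9, 8])
        (Gy := ![3, 2, 1, 0, 5, 4, 7, 6, 8, 9]) (Gz := ![0, 2, 1, 4, 3, 6, 5, 8, 7, 9]) h rfl he rfl (d4 b c d h)
        (by decide) (by decide) (by decide) (by decide) (by decide) (by decide) (by decide +kernel)
    · exact fin ![1, 0, 3, 2, 4, 6, 5, 7] ![3, 2, 1, 0, 5, 4, 7, 6] (Gx := ![1, 0, 3, 2, 4, 6, 5, 7, 9, 8, 11, 10])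
        (Gy := ![3, 2, 1, 0, 5, 4, 7, 6, 8, 10, 9, 11]) (Gz := ![0, 2, 1, 4, 3, 6, 5, 8, 7, 9, 11, 10]) h rfl he rfl
        (d4 b c d h)
        (by decide) (by decide) (by decide) (by decide) (by decide) (by decide) (by decide +kernel)
  · obtain ⟨v, hv⟩ : ∃ v, ∀ i, e4 i ≠ v := by
      by_contra h
      simp only [not_exists, not_forall, not_not] at h
      refine hE ⟨?_, u₀, hu⟩
      rw [← Fintype.card_fin 4]
      exact (Fintype.card_congr (Equiv.ofBijective e4 ⟨h4.1, h⟩)).symm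
    rcases walk_cycle hx2 hy2 hx hy v with h | h | h
    · exact good_with_square hx2 hy2 hs IH (Or.inl ⟨_, h⟩) hu hv hC
    · obtain ⟨i, hi⟩ := hC v h
      exact absurd hi (hv i)
    · exact absurd h hcx

end Cfsg.Lib.OddProduct
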